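import Groth.Agent.FlatBC.Abstract
import Groth.Agent.ConormalSection.TestHom
import Groth.Agent.CohFinite.HHFinite
import Mathlib.AlgebraicGeometry.Morphisms.Flat
import Mathlib.RingTheory.IsTensorProduct

/-!
# Base change on sections over affines
-/

set_option autoImplicit false
set_option linter.style.haveILetI false
set_option backward.isDefEq.respectTransparency false
universe u

open CategoryTheory Limits Opposite TopologicalSpace TensorProduct AlgebraicGeometry
open scoped Groth.Agent.CohVanish

namespace Groth.Agent.FlatBC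

open Groth.Agent.CohVanish Groth.Agent.CechCmp Groth.Agent.CohFinite

section Alg

variable {A B R R' M P : Type u} [CommRing A] [CommRing B] [CommRing R] [CommRing R']
  [Algebra A B] [Algebra A R] [Algebra B R'] [Algebra R R'] [Algebra A R']
  [IsScalarTower A B R'] [IsScalarTower A R R'] [Algebra.IsPushout A B R R']
  [AddCommGroup M] [Module A M] [Module R M] [AddCommGroup P] [Module R' P] [Module B P]

/-- Spanned and separated by test maps means base change. -/
theorem bijective_semiLift_of_test (hA : ∀ (a : A) (m : M), algebraMap A R a • m = a • m)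
    (hB : ∀ (b : B) (p : P), algebraMap B R' b • p = b • p)
    (v : M →+ P) (hv : ∀ (r : R) (m : M), v (r • m) = algebraMap R R' r • v m)
    (hu : IsSemi (A := A) (B := B) v) (hspan : Submodule.span R' (Set.range v) = ⊤)
    (htest : ∀ (T : ModuleCat.{u} R') (l : M →+ T), (∀ r m, l (r • m) = algebraMap R R' r • l m) →
      ∃ (N : Type u) (_ : AddCommGroup N) (_ : Module R' N) (ψ : P →ₗ[R'] N) (r : T →ₗ[R'] N),
        Function.Injective r ∧ ∀ m, ψ (v m) = r (l m)) :
    Function.Bijective (semiLift v hu) := by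
  have : IsScalarTower A R M := IsScalarTower.of_algebraMap_smul hA
  letI : Module R P := Module.compHom P (algebraMap R R')
  have : IsScalarTower R R' P := IsScalarTower.of_algebraMap_smul fun _ _ => rfl
  let v' : M →ₗ[R] P := { toFun := v, map_add' := map_add v, map_smul' := hv }
  let L := LinearMap.liftBaseChange R' v'
  have hL : Function.Bijective L := by
    refine ⟨(injective_iff_map_eq_zero L).2 fun z hz => ?_, LinearMap.range_eq_top.1 ?_⟩
    · obtain ⟨N, _, _, ψ, r, hr, h⟩ := htest (ModuleCat.of R' (R' ⊗[R] M))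
        (TensorProduct.mk R R' M 1).toAddMonoidHom fun s m => by
          show (1 : R') ⊗ₜ[R] (s • m) = algebraMap R R' s • ((1 : R') ⊗ₜ[R] m)
          rw [← smul_tmul, TensorProduct.smul_tmul', Algebra.smul_def, smul_eq_mul]
      have key : ∀ w, ψ (L w) = r w := by
        intro w
        induction w using TensorProduct.induction_on with
        | zero => simp
        | tmul s m =>
          rw [LinearMap.liftBaseChange_tmul, map_smul]
          refine (congrArg (s • ·) (h m)).trans ((map_smul r s _).symm.trans (congrArg r ?_))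
          show s • ((1 : R') ⊗ₜ[R] m) = _
          rw [TensorProduct.smul_tmul', smul_eq_mul, mul_one]
        | add a b ha hb => rw [map_add, map_add, ha, hb]; exact (map_add r a b).symm
      exact (map_eq_zero_iff r hr).1 ((key z).symm.trans (by rw [hz, map_zero]))
    · rw [eq_top_iff, ← hspan, Submodule.span_le]
      rintro _ ⟨m, rfl⟩
      exact ⟨1 ⊗ₜ m, by rw [LinearMap.liftBaseChange_tmul, one_smul]; rfl⟩
  let e := Algebra.IsPushout.cancelBaseChange A B R R' M
  have he : ∀ z, semiLift v hu z = L (e.symm z) := by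
    intro z
    induction z using TensorProduct.induction_on with
    | zero => simp
    | tmul b m =>
      rw [semiLift_tmul, Algebra.IsPushout.cancelBaseChange_symm_tmul, LinearMap.liftBaseChange_tmul]
      exact (hB b (v m)).symm
    | add a b ha hb => simp only [map_add, ha, hb]
  rw [funext he]
  exact hL.comp e.symm.bijective

end Alg

variable {A B : Type u} [CommRing A] [CommRing B] [Algebra A B] {X X' : Scheme.{u}}
  {s : X ⟶ Spec (CommRingCat.of A)} {s' : X' ⟶ Spec (CommRingCat.of B)} {g : X' ⟶ X}

/-- The direct image of a sheaf with action. -/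
noncomputable def pushRSh {R : Type u} [CommRing R] {T T' : TopCat.{u}} (f : T' ⟶ T) (F : RSh R T') :
    RSh R T where
  F := (pushSh f).obj F.F
  act :=
    { toFun := fun r => (pushSh f).map (F.act r)
      map_one' := (congrArg (pushSh f).map F.act.map_one).trans ((pushSh f).map_id _)
      map_mul' := fun r t => (congrArg (pushSh f).map (F.act.map_mul r t)).trans ((pushSh f).map_comp _ _)
      map_zero' := (congrArg (pushSh f).map F.act.map_zero).trans (abSh_hom_ext fun _ _ => rfl)
      map_add' := fun r t => (congrArg (pushSh f).map (F.act.map_add r t)).trans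
        (abSh_hom_ext fun _ _ => rfl) }

theorem global_comm (hw : g ≫ s = s' ≫ Spec.map (CommRingCat.ofHom (algebraMap A B))) (a : A) :
    g.appTop.hom (Coh.toGlobal s a) = Coh.toGlobal s' (algebraMap A B a) := by
  have h1 := congrArg Scheme.Hom.appTop hw
  rw [Scheme.Hom.comp_appTop, Scheme.Hom.comp_appTop] at h1
  show (s.appTop ≫ g.appTop) ((Scheme.ΓSpecIso (CommRingCat.of A)).inv a) = _
  rw [h1]
  exact congrArg (s'.appTop.hom)
    (ConcreteCategory.congr_hom (Scheme.ΓSpecIso_inv_naturality (CommRingCat.ofHom (algebraMap A B))) a).symm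

/-- The comparison of a module with the direct image of its pullback. -/
noncomputable def bcCmp (hw : g ≫ s = s' ≫ Spec.map (CommRingCat.ofHom (algebraMap A B))) (M : X.Modules) :
    Cmp A B (sp X) where
  F := modRSh (Coh.toGlobal s) M
  G := pushRSh g.base (modRSh (Coh.toGlobal s') ((Scheme.Modules.pullback g).obj M))
  η := (toAbF X).map ((Scheme.Modules.pullbackPushforwardAdjunction g).unit.app M)
  comm a := abSh_hom_ext fun W m => by
    obtain ⟨W⟩ := W
    let r : Γ(X, W) := Coh.resTop X (op W) (Coh.toGlobal s a)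
    let r' : Γ(X', g ⁻¹ᵁ W) := Coh.resTop X' (op (g ⁻¹ᵁ W)) (Coh.toGlobal s' (algebraMap A B a))
    let m' : Γ(M, W) := m
    show OmegaSh.pullSect g M W (r • m') = r' • OmegaSh.pullSect g M W m'
    dsimp only [r, r']
    rw [OmegaSh.pullSect_smul, ← global_comm hw a]
    congr 1
    exact ConcreteCategory.congr_hom (g.naturality (homOfLE (le_top (a := W))).op) (Coh.toGlobal s a)

theorem isPushout_sections (hpb : IsPullback g s' s (Spec.map (CommRingCat.ofHom (algebraMap A B))))
    {W : X.Opens} (hW : IsAffineOpen W) :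
    CategoryTheory.IsPushout (CommRingCat.ofHom (algebraMap A B))
      ((Scheme.ΓSpecIso (CommRingCat.of A)).inv ≫ s.appLE ⊤ W (by simp))
      ((Scheme.ΓSpecIso (CommRingCat.of B)).inv ≫ s'.appLE ⊤ (g ⁻¹ᵁ W) (by simp))
      (g.app W) := by
  let sq := Spec.map (CommRingCat.ofHom (algebraMap A B))
  have hU : g ⁻¹ᵁ W = g ⁻¹ᵁ W ⊓ s' ⁻¹ᵁ ⊤ := by simp
  have h1 := (isIso_pushoutSection_iff hpb (US := ⊤) (UT := ⊤) (by simp) (by simp) hU).1
    (isIso_pushoutSection_of_isAffineOpen hpb (US := ⊤) (UT := ⊤) (by simp) (by simp) hU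
      (isAffineOpen_top _) (isAffineOpen_top _) hW)
  refine h1.flip.of_iso (Scheme.ΓSpecIso (CommRingCat.of A)) (Scheme.ΓSpecIso (CommRingCat.of B))
    (Iso.refl _) (Iso.refl _) ?_ ?_ (by simp) ?_
  · rw [Scheme.Hom.appLE, show homOfLE _ = 𝟙 _ from Subsingleton.elim _ _]
    simp [Scheme.ΓSpecIso_naturality]
  · simp
  · simp [Scheme.Hom.app_eq_appLE]

/-- Base change on sections over an affine open. -/
theorem bijective_semiLift_sections (hpb : IsPullback g s' s (Spec.map (CommRingCat.ofHom (algebraMap A B))))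
    (M : X.Modules) [M.IsQuasicoherent] {W : X.Opens} (hW : IsAffineOpen W)
    (hu : IsSemi (A := A) (B := B) (M := (bcCmp hpb.w M).F.F.obj.obj (op W))
      (N := (bcCmp hpb.w M).G.F.obj.obj (op W)) ((bcCmp hpb.w M).η.hom.app (op W)).hom) :
    Function.Bijective (semiLift _ hu) := by
  have hpo := isPushout_sections hpb hW
  have hU : IsAffineOpen (g ⁻¹ᵁ W) := by
    have : IsAffineHom g := MorphismProperty.of_isPullback hpb.flip inferInstance
    exact hW.preimage g
  let R := Γ(X, W)
  let R' := Γ(X', g ⁻¹ᵁ W)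
  let α : A →+* R := ((Scheme.ΓSpecIso (CommRingCat.of A)).inv ≫ s.appLE ⊤ W (by simp)).hom
  let β : B →+* R' := ((Scheme.ΓSpecIso (CommRingCat.of B)).inv ≫ s'.appLE ⊤ (g ⁻¹ᵁ W) (by simp)).hom
  letI : Algebra A R := α.toAlgebra
  letI : Algebra B R' := β.toAlgebra
  letI : Algebra R R' := (g.app W).hom.toAlgebra
  letI : Algebra A R' := ((g.app W).hom.comp α).toAlgebra
  have : IsScalarTower A R R' := .of_algebraMap_eq' rfl
  have : IsScalarTower A B R' := .of_algebraMap_eq' (congrArg CommRingCat.Hom.hom hpo.w).symm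
  have : Algebra.IsPushout A B R R' := CommRingCat.isPushout_iff_isPushout.1 hpo
  letI : Module A Γ(M, W) := (bcCmp hpb.w M).F.moduleSec W
  letI : Module B Γ((Scheme.Modules.pullback g).obj M, g ⁻¹ᵁ W) := (bcCmp hpb.w M).G.moduleSec W
  have hu' : IsSemi (A := A) (B := B) (M := Γ(M, W)) (N := Γ((Scheme.Modules.pullback g).obj M, g ⁻¹ᵁ W))
      (OmegaSh.pullSect g M W).hom := hu
  have hid : ∀ m, ConormalSection.pullRes g M (le_refl (g ⁻¹ᵁ W)) m = OmegaSh.pullSect g M W m := fun m =>
    ConcreteCategory.congr_hom (((Scheme.Modules.pullback g).obj M).presheaf.map_id _) _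
  suffices h : Function.Bijective (semiLift _ hu') from h
  refine bijective_semiLift_of_test (A := A) (B := B) (R := R) (R' := R') (M := Γ(M, W)) (P := Γ((Scheme.Modules.pullback g).obj M, g ⁻¹ᵁ W)) (fun a m => rfl) (fun b p => rfl) _
    (fun r m => OmegaSh.pullSect_smul g M W r m) hu' ?_ ?_
  · rw [← ConormalSection.span_pullRes g M hW hU le_rfl]
    exact congrArg (Submodule.span R') (congrArg Set.range (funext hid).symm)
  · intro T l hl
    obtain ⟨N, ψ, r, hr, hrs, hra, hrl⟩ := ConormalSection.exists_testHom g M hW hU le_rfl T l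
      fun b m => by rw [Scheme.Hom.appLE_eq_app]; exact hl b m
    refine ⟨Γ(N, g ⁻¹ᵁ W), inferInstance, inferInstance,
      { toFun := ψ.app (g ⁻¹ᵁ W), map_add' := map_add _, map_smul' := Scheme.Modules.Hom.app_smul ψ },
      { toFun := r, map_add' := hra, map_smul' := hrs }, hr, fun m => ?_⟩
    exact (congrArg (ψ.app (g ⁻¹ᵁ W)) (hid m).symm).trans (hrl m)

end Groth.Agent.FlatBC
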