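import Groth.Agent.FlatBC.Sections
import Groth.Agent.CohFinite.PushAffine
import Groth.Agent.QCohLib.Criterion
import Groth.Agent.CohVanish.MV
import Groth.Prelude.Def_CohB1

/-!
# Flat base change of cohomology over an affine base
-/

set_option autoImplicit false
set_option linter.style.haveILetI false
set_option backward.isDefEq.respectTransparency false
universe u

open CategoryTheory Limits Opposite TopologicalSpace TensorProduct AlgebraicGeometry
open scoped Groth.Agent.CohVanish

namespace Groth.Agent.FlatBC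

open Groth.Agent.CohVanish Groth.Agent.CechCmp Groth.Agent.CohFinite

variable {A B : Type u} [CommRing A] [CommRing B] [Algebra A B] {X X' : Scheme.{u}}
  {s : X ⟶ Spec (CommRingCat.of A)} {s' : X' ⟶ Spec (CommRingCat.of B)} {g : X' ⟶ X}
  (hpb : IsPullback g s' s (Spec.map (CommRingCat.ofHom (algebraMap A B))))
  (M : X.Modules) [M.IsQuasicoherent]

include hpb in
theorem isAffineHom_of_pullback : IsAffineHom g :=
  MorphismProperty.of_isPullback hpb.flip inferInstance

/-- Base change on an affine open. -/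
theorem bijective_ψ_affine {W : X.Opens} (hW : IsAffineOpen W) (i : ℕ) :
    Function.Bijective ((bcCmp hpb.w M).ψ W i) := by
  have := isAffineHom_of_pullback hpb
  let c := bcCmp hpb.w M
  cases i with
  | zero =>
    have hu : IsSemi (A := A) (B := B) (M := c.F.F.obj.obj (op W)) (N := c.G.F.obj.obj (op W))
        (c.η.hom.app (op W)).hom := fun a x =>
      congr(($(c.comm a)).hom.app (op W) x)
    let l : HMod c.F W 0 ≃ₗ[A] c.F.F.obj.obj (op W) :=
      AddEquiv.toLinearEquiv (eu0 W c.F.F) fun a x => eu0_eMap (c.F.act a) W x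
    let l' : HMod c.G W 0 ≃+ c.G.F.obj.obj (op W) := eu0 W c.G.F
    have e := semiLift_comp (c.u W 0) (c.isSemi_u W 0) _ hu l.toLinearMap l'.toAddMonoidHom
      (fun b y => eu0_eMap (c.G.act b) W y) (fun x => eu0_eMap c.η W x)
    refine (Function.Bijective.of_comp_iff' l'.bijective _).1 ?_
    change Function.Bijective (l'.toAddMonoidHom.comp (c.ψ W 0))
    rw [show l'.toAddMonoidHom.comp (c.ψ W 0) = _ from e]
    exact (bijective_semiLift_sections hpb M hW hu).comp (LinearEquiv.lTensor B l).bijective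
  | succ j =>
    have : Subsingleton (HMod c.F W (j + 1)) := subsingleton_EU_of_isAffineOpen M hW j
    have : ((Scheme.Modules.pushforward g).obj ((Scheme.Modules.pullback g).obj M)).IsQuasicoherent :=
      have := QCohLib.isQuasicoherent_pullback g M
      QCohLib.isQuasicoherent_pushforward g
    have : Subsingleton (HMod c.G W (j + 1)) :=
      subsingleton_EU_of_isAffineOpen ((Scheme.Modules.pushforward g).obj ((Scheme.Modules.pullback g).obj M)) hW j
    have : Subsingleton (B ⊗[A] HMod c.F W (j + 1)) :=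
      subsingleton_of_forall_eq 0 fun z => by
        induction z using TensorProduct.induction_on with
        | zero => rfl
        | tmul b x => rw [Subsingleton.elim x 0, tmul_zero]
        | add a b ha hb => rw [ha, hb, add_zero]
    exact ⟨fun _ _ _ => Subsingleton.elim _ _, fun y => ⟨0, Subsingleton.elim _ _⟩⟩

variable [Module.Flat A B]

theorem bijective_ψ_le_affine {W U : X.Opens} (hW : IsAffineOpen W) (hU : IsCompact (U : Set X))
    (hUW : U ≤ W) (i : ℕ) : Function.Bijective ((bcCmp hpb.w M).ψ U i) := by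
  classical
  have key : ∀ x : U, ∃ g : Γ(X, W), X.basicOpen g ≤ U ∧ x.1 ∈ X.basicOpen g :=
    fun x => hW.exists_basicOpen_le ⟨x, x.2⟩ (hUW x.2)
  choose g₀ hgU hxg using key
  obtain ⟨t, ht⟩ := hU.elim_finite_subcover (fun x : U => (X.basicOpen (g₀ x) : Set X))
    (fun x => (X.basicOpen (g₀ x)).isOpen) fun x hx => Set.mem_iUnion.mpr ⟨⟨x, hx⟩, hxg _⟩
  have e : U = ⨆ j : Fin t.card, X.basicOpen (g₀ (t.equivFin.symm j).1) := by
    refine le_antisymm (fun x hx => ?_) (iSup_le fun j => hgU _)
    obtain ⟨j, hj, hxj⟩ : ∃ j ∈ t, x ∈ X.basicOpen (g₀ j) := by simpa using ht hx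
    exact Opens.mem_iSup.mpr ⟨t.equivFin ⟨j, hj⟩, by rw [Equiv.symm_apply_apply]; exact hxj⟩
  rw [e]
  refine (bcCmp hpb.w M).bijective_ψ_iSup (fun V => ∃ f : Γ(X, W), V = X.basicOpen f) ?_ ?_ ?_ _ _
    (fun j => ⟨_, rfl⟩) i
  · rintro _ ⟨f, rfl⟩ j
    exact bijective_ψ_affine hpb M (hW.basicOpen f) j
  · rintro _ _ ⟨f, rfl⟩ ⟨f', rfl⟩
    exact ⟨f * f', (X.basicOpen_mul f f').symm⟩
  · exact ⟨0, (X.basicOpen_zero W).symm⟩

/-- Base change on a quasi-compact open. -/
theorem bijective_ψ_compact [QuasiSeparatedSpace X] (U : X.Opens) (hU : IsCompact (U : Set X)) :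
    ∀ i, Function.Bijective ((bcCmp hpb.w M).ψ U i) := by
  refine compact_open_induction_on
    (P := fun U : X.Opens => ∀ i, Function.Bijective ((bcCmp hpb.w M).ψ U i)) U hU ?_ ?_
  · exact bijective_ψ_affine hpb M (isAffineOpen_bot X)
  · intro S hS V ih i
    exact (bcCmp hpb.w M).bijective_ψ_sup ih (fun j => bijective_ψ_affine hpb M V.2 j)
      (fun j => bijective_ψ_le_affine hpb M V.2
        (QuasiSeparatedSpace.inter_isCompact _ _ S.isOpen hS V.1.isOpen V.2.isCompact) inf_le_right j) i

end Groth.Agent.FlatBC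

namespace Groth.Agent.FlatBC

open Groth.Agent.CohVanish Groth.Agent.CechCmp Groth.Agent.CohFinite

/-- Flat base change over an affine base. -/
theorem nonempty_baseChange_HH (A B : Type u) [CommRing A] [CommRing B] [Algebra A B] [Module.Flat A B]
    (X X' : Scheme.{u}) [X.Over (Spec (CommRingCat.of A))] [X'.Over (Spec (CommRingCat.of B))]
    [CompactSpace X] [QuasiSeparatedSpace X] (g : X' ⟶ X)
    (h : IsPullback g (X' ↘ Spec (CommRingCat.of B)) (X ↘ Spec (CommRingCat.of A))
      (Spec.map (CommRingCat.ofHom (algebraMap A B))))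
    (M : X.Modules) [M.IsQuasicoherent] (i : ℕ) :
    Nonempty (B ⊗[A] Coh.HH X M i ≃ₗ[B] Coh.HH X' ((Scheme.Modules.pullback g).obj M) i) := by
  have := isAffineHom_of_pullback h
  have := QCohLib.isQuasicoherent_pullback g M
  let φ := Coh.toGlobal (X' ↘ Spec (CommRingCat.of B))
  let P := (Scheme.Modules.pullback g).obj M
  let c := bcCmp h.w M
  have hB : Opens.IsBasis (Set.range fun U : X.affineOpens => U.1) := by
    convert X.isBasis_affineOpens
    exact Subtype.range_coe
  obtain ⟨e, he⟩ := exists_push_equiv_endo g.base (fun U : X.affineOpens => U.1) hB i (Coh.toAb P)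
    (fun U m => subsingleton_EU_of_isAffineOpen P (U.2.preimage g) m)
  let e' : HMod (modRSh φ P) ⊤ i ≃ₗ[B] HMod c.G ⊤ i :=
    AddEquiv.toLinearEquiv (show HMod (modRSh φ P) ⊤ i ≃+ HMod c.G ⊤ i from e)
      fun b x => he ((modRSh φ P).act b) x
  let ψ : B ⊗[A] HMod c.F ⊤ i ≃ₗ[B] HMod c.G ⊤ i :=
    LinearEquiv.ofBijective
      { toFun := c.ψ ⊤ i, map_add' := map_add _, map_smul' := semiLift_smul _ _ }
      (bijective_ψ_compact h M ⊤ isCompact_univ i)
  exact ⟨LinearEquiv.baseChange A B _ _ (hhEquiv M i) ≪≫ₗ ψ ≪≫ₗ e'.symm ≪≫ₗ (hhEquiv P i).symm⟩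

end Groth.Agent.FlatBC
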