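import Groth.Agent.FlatBC.MVSeq
import Groth.Agent.CohFinite.HMod
import Mathlib.RingTheory.Flat.Basic
import Mathlib.Algebra.FiveLemma
import Mathlib.LinearAlgebra.TensorProduct.Prod

/-!
# Base change maps on cohomology and the Mayer–Vietoris step
-/

set_option autoImplicit false
set_option linter.style.haveILetI false
set_option backward.isDefEq.respectTransparency false
universe u

open CategoryTheory Opposite TopologicalSpace TensorProduct
open scoped Groth.Agent.CohVanish

namespace Groth.Agent.FlatBC

open Groth.Agent.CohVanish Groth.Agent.CechCmp Groth.Agent.CohFinite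

variable {A B : Type u} [CommRing A] [CommRing B] [Algebra A B]

section Semi

variable {M N M' N' : Type u} [AddCommGroup M] [Module A M] [AddCommGroup N] [Module B N]
  [AddCommGroup M'] [Module A M'] [AddCommGroup N'] [Module B N']

/-- A semilinear additive map. -/
def IsSemi (u : M →+ N) : Prop := ∀ (a : A) (x : M), u (a • x) = algebraMap A B a • u x

/-- The extension of scalars of a semilinear additive map. -/
noncomputable def semiLift (u : M →+ N) (hu : IsSemi (A := A) (B := B) u) : B ⊗[A] M →+ N :=
  TensorProduct.liftAddHom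
    (AddMonoidHom.mk' (fun b => (DistribSMul.toAddMonoidHom N b).comp u) fun b b' =>
      AddMonoidHom.ext fun x => add_smul b b' (u x))
    fun a b x => by
      show (a • b) • u x = b • u (a • x)
      rw [hu, Algebra.smul_def, mul_comm, mul_smul]

theorem semiLift_tmul (u : M →+ N) (hu : IsSemi (A := A) (B := B) u) (b : B) (x : M) :
    semiLift u hu (b ⊗ₜ[A] x) = b • u x := rfl

theorem semiLift_smul (u : M →+ N) (hu : IsSemi (A := A) (B := B) u) (b : B) (z : B ⊗[A] M) :
    semiLift u hu (b • z) = b • semiLift u hu z := by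
  induction z using TensorProduct.induction_on with
  | zero => simp
  | tmul c x => rw [TensorProduct.smul_tmul', semiLift_tmul, semiLift_tmul, smul_eq_mul, mul_smul]
  | add z w hz hw => rw [smul_add, map_add, map_add, hz, hw, smul_add]

theorem semiLift_comp (u : M →+ N) (hu : IsSemi (A := A) (B := B) u) (u' : M' →+ N')
    (hu' : IsSemi (A := A) (B := B) u') (l : M →ₗ[A] M') (l' : N →+ N')
    (hl' : ∀ (b : B) (y : N), l' (b • y) = b • l' y) (h : ∀ x, l' (u x) = u' (l x)) :
    l'.comp (semiLift u hu) = (semiLift u' hu').comp (l.lTensor B).toAddMonoidHom := by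
  refine AddMonoidHom.ext fun z => ?_
  induction z using TensorProduct.induction_on with
  | zero => simp
  | tmul b x => exact ((hl' b (u x)).trans (congrArg (b • ·) (h x))).trans rfl
  | add z w hz hw => simp only [map_add, hz, hw]

theorem isSemi_prodMap (u : M →+ N) (hu : IsSemi (A := A) (B := B) u) (u' : M' →+ N')
    (hu' : IsSemi (A := A) (B := B) u') : IsSemi (A := A) (B := B) (u.prodMap u') :=
  fun a x => Prod.ext (hu a x.1) (hu' a x.2)

theorem semiLift_prod_bijective (u : M →+ N) (hu : IsSemi (A := A) (B := B) u) (u' : M' →+ N')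
    (hu' : IsSemi (A := A) (B := B) u') (h : Function.Bijective (semiLift u hu))
    (h' : Function.Bijective (semiLift u' hu')) :
    Function.Bijective (semiLift (u.prodMap u') (isSemi_prodMap u hu u' hu')) := by
  have e : ∀ z, semiLift (u.prodMap u') (isSemi_prodMap u hu u' hu') z =
      Prod.map (semiLift u hu) (semiLift u' hu') (TensorProduct.prodRight A B B M M' z) := by
    intro z
    induction z using TensorProduct.induction_on with
    | zero => simp only [map_zero]; exact Prod.ext (map_zero _).symm (map_zero _).symm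
    | tmul b x => exact Prod.ext rfl rfl
    | add z w hz hw => simp only [map_add, hz, hw]; exact Prod.ext (map_add _ _ _).symm (map_add _ _ _).symm
  rw [funext e]
  exact (h.prodMap h').comp (LinearEquiv.bijective _)

end Semi

variable {X : TopCat.{u}}

/-- A sheaf with an action of `A`, mapped to one with an action of `B`. -/
structure Cmp (A B : Type u) [CommRing A] [CommRing B] [Algebra A B] (X : TopCat.{u}) where
  /-- The source. -/
  F : RSh A X
  /-- The target. -/
  G : RSh B X
  /-- The map. -/
  η : F.F ⟶ G.F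
  comm : ∀ a, F.act a ≫ η = η ≫ G.act (algebraMap A B a)

namespace Cmp

variable (c : Cmp A B X)

/-- The map on cohomology. -/
noncomputable def u (U : Opens X) (i : ℕ) : HMod c.F U i →+ HMod c.G U i := eMap c.η U i

theorem isSemi_u (U : Opens X) (i : ℕ) : IsSemi (A := A) (B := B) (c.u U i) := fun a x =>
  ((eMap_comp (c.F.act a) c.η U i x).symm.trans (congrArg (fun φ => eMap φ U i x) (c.comm a))).trans
    (eMap_comp c.η (c.G.act (algebraMap A B a)) U i x)

/-- The base change map on cohomology. -/
noncomputable def ψ (U : Opens X) (i : ℕ) : B ⊗[A] HMod c.F U i →+ HMod c.G U i :=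
  semiLift (c.u U i) (c.isSemi_u U i)

/-- Pairs of restrictions, linearly. -/
noncomputable def pairLin {R : Type u} [CommRing R] (F : RSh R X) (U V : Opens X) (i : ℕ) :
    HMod F (U ⊔ V) i →ₗ[R] HMod F U i × HMod F V i where
  toFun := pairRes U V F.F i
  map_add' := map_add (pairRes U V F.F i)
  map_smul' r x := pairRes_eMap (F.act r) i x

/-- Differences of restrictions, linearly. -/
noncomputable def diffLin {R : Type u} [CommRing R] (F : RSh R X) (U V : Opens X) (i : ℕ) :
    HMod F U i × HMod F V i →ₗ[R] HMod F (U ⊓ V) i where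
  toFun := diffRes U V F.F i
  map_add' := map_add (diffRes U V F.F i)
  map_smul' r x := diffRes_eMap (F.act r) i x

/-- The connecting map, linearly. -/
noncomputable def deltaLin {R : Type u} [CommRing R] (F : RSh R X) (U V : Opens X) (i : ℕ) :
    HMod F (U ⊓ V) i →ₗ[R] HMod F (U ⊔ V) (i + 1) where
  toFun := mvDelta U V F.F i
  map_add' := map_add (mvDelta U V F.F i)
  map_smul' r x := mvDelta_eMap (F.act r) i x

variable {U V : Opens X}

/-- The Mayer–Vietoris step. -/
theorem bijective_ψ_sup [Module.Flat A B] (hU : ∀ i, Function.Bijective (c.ψ U i))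
    (hV : ∀ i, Function.Bijective (c.ψ V i)) (hUV : ∀ i, Function.Bijective (c.ψ (U ⊓ V) i)) (i : ℕ) :
    Function.Bijective (c.ψ (U ⊔ V) i) := by
  let P : ∀ j, B ⊗[A] (HMod c.F U j × HMod c.F V j) →+ HMod c.G U j × HMod c.G V j := fun j =>
    semiLift _ (isSemi_prodMap _ (c.isSemi_u U j) _ (c.isSemi_u V j))
  have hP : ∀ j, Function.Bijective (P j) := fun j => semiLift_prod_bijective _ _ _ _ (hU j) (hV j)
  have c₁ : ∀ j, (pairLin c.G U V j).toAddMonoidHom.comp (c.ψ (U ⊔ V) j) =
      (P j).comp ((pairLin c.F U V j).lTensor B).toAddMonoidHom := fun j =>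
    semiLift_comp _ _ _ _ (pairLin c.F U V j) _ (fun b y => map_smul (pairLin c.G U V j) b y)
      (pairRes_eMap c.η j)
  have c₂ : ∀ j, (diffLin c.G U V j).toAddMonoidHom.comp (P j) =
      (c.ψ (U ⊓ V) j).comp ((diffLin c.F U V j).lTensor B).toAddMonoidHom := fun j =>
    semiLift_comp _ _ _ _ (diffLin c.F U V j) _ (fun b y => map_smul (diffLin c.G U V j) b y)
      (diffRes_eMap c.η j)
  have c₃ : ∀ j, (deltaLin c.G U V j).toAddMonoidHom.comp (c.ψ (U ⊓ V) j) =
      (c.ψ (U ⊔ V) (j + 1)).comp ((deltaLin c.F U V j).lTensor B).toAddMonoidHom := fun j =>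
    semiLift_comp _ _ _ _ (deltaLin c.F U V j) _ (fun b y => map_smul (deltaLin c.G U V j) b y)
      (mvDelta_eMap c.η j)
  have e₁ : ∀ j, Function.Exact (pairLin c.F U V j) (diffLin c.F U V j) := exact_pairRes_diffRes U V c.F.F
  have e₂ : ∀ j, Function.Exact (diffLin c.F U V j) (deltaLin c.F U V j) := exact_diffRes_mvDelta U V c.F.F
  have e₃ : ∀ j, Function.Exact (deltaLin c.F U V j) (pairLin c.F U V (j + 1)) :=
    exact_mvDelta_pairRes U V c.F.F
  cases i with
  | zero =>
    exact AddMonoidHom.bijective_of_bijective_of_injective_of_left_exact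
      ((pairLin c.F U V 0).lTensor B).toAddMonoidHom ((diffLin c.F U V 0).lTensor B).toAddMonoidHom
      (pairLin c.G U V 0).toAddMonoidHom (diffLin c.G U V 0).toAddMonoidHom
      (c.ψ (U ⊔ V) 0) (P 0) (c.ψ (U ⊓ V) 0) (c₁ 0) (c₂ 0)
      (Module.Flat.lTensor_exact B (e₁ 0)) (exact_pairRes_diffRes U V c.G.F 0) (hP 0) (hUV 0).1
      (Module.Flat.lTensor_preserves_injective_linearMap (M := B) (pairLin c.F U V 0)
        (pairRes_zero_injective U V c.F.F))
      (pairRes_zero_injective U V c.G.F)
  | succ j =>
    exact AddMonoidHom.bijective_of_surjective_of_bijective_of_bijective_of_injective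
      ((diffLin c.F U V j).lTensor B).toAddMonoidHom ((deltaLin c.F U V j).lTensor B).toAddMonoidHom
      ((pairLin c.F U V (j + 1)).lTensor B).toAddMonoidHom ((diffLin c.F U V (j + 1)).lTensor B).toAddMonoidHom
      (diffLin c.G U V j).toAddMonoidHom (deltaLin c.G U V j).toAddMonoidHom
      (pairLin c.G U V (j + 1)).toAddMonoidHom (diffLin c.G U V (j + 1)).toAddMonoidHom
      (P j) (c.ψ (U ⊓ V) j) (c.ψ (U ⊔ V) (j + 1)) (P (j + 1)) (c.ψ (U ⊓ V) (j + 1))
      (c₂ j) (c₃ j) (c₁ (j + 1)) (c₂ (j + 1))
      (Module.Flat.lTensor_exact B (e₂ j)) (Module.Flat.lTensor_exact B (e₃ j))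
      (Module.Flat.lTensor_exact B (e₁ (j + 1))) (exact_diffRes_mvDelta U V c.G.F j)
      (exact_mvDelta_pairRes U V c.G.F j) (exact_pairRes_diffRes U V c.G.F (j + 1))
      (hP j).2 (hUV j) (hP (j + 1)) (hUV (j + 1)).1

/-- Induction over finite unions of a family closed under intersections. -/
theorem bijective_ψ_iSup [Module.Flat A B] (P : Opens X → Prop)
    (hP : ∀ W, P W → ∀ i, Function.Bijective (c.ψ W i)) (hd : ∀ W W', P W → P W' → P (W ⊓ W'))
    (hbot : P ⊥) :
    ∀ (k : ℕ) (U : Fin k → Opens X), (∀ j, P (U j)) → ∀ i, Function.Bijective (c.ψ (⨆ j, U j) i) := by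
  intro k
  induction k with
  | zero => intro U _; rw [iSup_of_empty]; exact hP _ hbot
  | succ k ih =>
    intro U hU
    have e : (⨆ i, U i) = (⨆ i : Fin k, U i.castSucc) ⊔ U (Fin.last k) := by
      refine le_antisymm (iSup_le fun i => ?_) (sup_le (iSup_le fun i => le_iSup U _) (le_iSup U _))
      induction i using Fin.lastCases with
      | last => exact le_sup_right
      | cast i => exact le_sup_of_le_left (le_iSup (fun i : Fin k => U i.castSucc) i)
    rw [e]
    refine c.bijective_ψ_sup (ih _ fun i => hU _) (hP _ (hU _)) ?_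
    rw [iSup_inf_eq]
    exact ih _ fun i => hd _ _ (hU _) (hU _)

end Cmp

end Groth.Agent.FlatBC
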