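import Groth.Agent.CohVanish.MV
import Mathlib.Algebra.Exact.Basic

/-!
# The Mayer–Vietoris sequence, elementwise
-/

set_option autoImplicit false
set_option linter.style.haveILetI false
set_option backward.isDefEq.respectTransparency false
universe u

open CategoryTheory CategoryTheory.Limits Opposite TopologicalSpace Abelian
open scoped Groth.Agent.CohVanish

namespace Groth.Agent.FlatBC

open Groth.Agent.CohVanish

variable {X : TopCat.{u}} (U V : Opens X)

/-- The pair of restrictions. -/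
noncomputable def pairRes (F : AbSh X) (n : ℕ) : EU F (U ⊔ V) n →+ EU F U n × EU F V n :=
  (eRes F (homOfLE le_sup_left) n).prod (eRes F (homOfLE le_sup_right) n)

/-- The difference of the restrictions. -/
noncomputable def diffRes (F : AbSh X) (n : ℕ) : EU F U n × EU F V n →+ EU F (U ⊓ V) n :=
  (eRes F (homOfLE inf_le_left) n).comp (AddMonoidHom.fst _ _) -
    (eRes F (homOfLE inf_le_right) n).comp (AddMonoidHom.snd _ _)

/-- The connecting map. -/
noncomputable def mvDelta (F : AbSh X) (n : ℕ) : EU F (U ⊓ V) n →+ EU F (U ⊔ V) (n + 1) :=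
  ((Opens.mayerVietorisSquare U V).δ F n (n + 1) rfl).hom

/-- Pairs of classes. -/
noncomputable def eMapProd {F G : AbSh X} (φ : F ⟶ G) (n : ℕ) :
    EU F U n × EU F V n →+ EU G U n × EU G V n :=
  (eMap φ U n).prodMap (eMap φ V n)

variable {U V}

theorem mvDelta_eMap {F G : AbSh X} (φ : F ⟶ G) (n : ℕ) (x : EU F (U ⊓ V) n) :
    mvDelta U V G n (eMap φ (U ⊓ V) n x) = eMap φ (U ⊔ V) (n + 1) (mvDelta U V F n x) :=
  (Ext.comp_assoc (X := (Opens.mayerVietorisSquare U V).shortComplex.X₃)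
    (Opens.mayerVietorisSquare U V).shortComplex_shortExact.extClass x (Ext.mk₀ φ)
    (by omega) (add_zero n) (by omega)).symm

theorem pairRes_eMap {F G : AbSh X} (φ : F ⟶ G) (n : ℕ) (x : EU F (U ⊔ V) n) :
    pairRes U V G n (eMap φ (U ⊔ V) n x) = eMapProd U V φ n (pairRes U V F n x) :=
  Prod.ext (eMap_eRes φ (homOfLE le_sup_left) n x).symm (eMap_eRes φ (homOfLE le_sup_right) n x).symm

theorem diffRes_eMap {F G : AbSh X} (φ : F ⟶ G) (n : ℕ) (x : EU F U n × EU F V n) :
    diffRes U V G n (eMapProd U V φ n x) = eMap φ (U ⊓ V) n (diffRes U V F n x) := by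
  show eRes G _ n (eMap φ U n x.1) - eRes G _ n (eMap φ V n x.2) =
    eMap φ (U ⊓ V) n (eRes F _ n x.1 - eRes F _ n x.2)
  rw [map_sub, ← eMap_eRes, ← eMap_eRes]

variable (U V) (F : AbSh X) (n : ℕ)

/-- The transition map of the cohomology presheaf is restriction. -/
theorem res_eq {A B : Opens X} (i : A ⟶ B) (x : EU F B n) :
    ((F.cohomologyPresheaf n).map i.op).hom x = eRes F i n x := rfl

theorem toBiprod_eq (x : F.H' n (Opens.mayerVietorisSquare U V).X₄) :
    (AddCommGrpCat.biprodIsoProd _ _).hom ((Opens.mayerVietorisSquare U V).toBiprod F n x) =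
      pairRes U V F n x :=
  ((congrArg (AddCommGrpCat.biprodIsoProd _ _).hom
    (GrothendieckTopology.MayerVietorisSquare.toBiprod_apply (Opens.mayerVietorisSquare U V) F x)).trans
      (Iso.inv_hom_id_apply _ _)).trans
    (Prod.ext (res_eq F n (homOfLE le_sup_left) x) (res_eq F n (homOfLE le_sup_right) x))

theorem fromBiprod_eq (y₁ : F.H' n (Opens.mayerVietorisSquare U V).X₂) (y₂ : F.H' n (Opens.mayerVietorisSquare U V).X₃) :
    (Opens.mayerVietorisSquare U V).fromBiprod F n ((AddCommGrpCat.biprodIsoProd _ _).inv ⟨y₁, y₂⟩) =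
      diffRes U V F n (y₁, y₂) :=
  (GrothendieckTopology.MayerVietorisSquare.fromBiprod_biprodIsoProd_inv_apply _ _ y₁ y₂).trans
    (congrArg₂ (fun a b => a - b) (res_eq F n (homOfLE inf_le_left) y₁) (res_eq F n (homOfLE inf_le_right) y₂))

theorem exact_pairRes_diffRes : Function.Exact (pairRes U V F n) (diffRes U V F n) := by
  have h := ((Opens.mayerVietorisSquare U V).sequence_exact F n (n + 1) rfl).exact 0
  rw [ShortComplex.ab_exact_iff_function_exact] at h
  rintro ⟨y₁, y₂⟩
  refine Iff.trans ?_ ((h ((AddCommGrpCat.biprodIsoProd _ _).inv ⟨y₁, y₂⟩)).trans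
    ⟨fun ⟨x, hx⟩ => ⟨x, ?_⟩, fun ⟨x, hx⟩ => ⟨x, ?_⟩⟩)
  · exact ⟨fun h' => (fromBiprod_eq U V F n y₁ y₂).trans h', fun h' => (fromBiprod_eq U V F n y₁ y₂).symm.trans h'⟩
  · exact (toBiprod_eq U V F n x).symm.trans
      ((congrArg (AddCommGrpCat.biprodIsoProd _ _).hom hx).trans (Iso.inv_hom_id_apply _ _))
  · apply (ConcreteCategory.bijective_of_isIso (AddCommGrpCat.biprodIsoProd _ _).hom).1
    refine ((toBiprod_eq U V F n x).trans hx).trans ?_
    exact ((AddCommGrpCat.biprodIsoProd (F.H' n (Opens.mayerVietorisSquare U V).X₂) (F.H' n (Opens.mayerVietorisSquare U V).X₃)).inv_hom_id_apply (y₁, y₂)).symm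

theorem exact_diffRes_mvDelta : Function.Exact (diffRes U V F n) (mvDelta U V F n) := by
  have h := ((Opens.mayerVietorisSquare U V).sequence_exact F n (n + 1) rfl).exact 1
  rw [ShortComplex.ab_exact_iff_function_exact] at h
  intro z
  refine (h z).trans ⟨fun ⟨y, hy⟩ => ?_, fun ⟨⟨y₁, y₂⟩, hy⟩ =>
    ⟨(AddCommGrpCat.biprodIsoProd _ _).inv ⟨y₁, y₂⟩, (fromBiprod_eq U V F n y₁ y₂).trans hy⟩⟩
  obtain ⟨⟨y₁, y₂⟩, rfl⟩ := (AddCommGrpCat.biprodIsoProd _ _).addCommGroupIsoToAddEquiv.symm.surjective y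
  exact ⟨(y₁, y₂), (fromBiprod_eq U V F n y₁ y₂).symm.trans hy⟩

theorem exact_mvDelta_pairRes : Function.Exact (mvDelta U V F n) (pairRes U V F (n + 1)) := by
  have h := ((Opens.mayerVietorisSquare U V).sequence_exact F n (n + 1) rfl).exact 2
  rw [ShortComplex.ab_exact_iff_function_exact] at h
  intro x
  refine Iff.trans ⟨fun h' => ?_, fun h' => ?_⟩ (h x)
  · apply (AddCommGrpCat.biprodIsoProd _ _).addCommGroupIsoToAddEquiv.injective
    exact ((toBiprod_eq U V F (n + 1) x).trans h').trans (map_zero _).symm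
  · exact (toBiprod_eq U V F (n + 1) x).symm.trans
      ((congrArg (AddCommGrpCat.biprodIsoProd _ _).hom h').trans (map_zero _))

theorem pairRes_zero_injective : Function.Injective (pairRes U V F 0) := by
  refine (injective_iff_map_eq_zero _).2 fun x hx => ?_
  apply (eu0 (U ⊔ V) F).injective
  rw [map_zero]
  have h1 : eu0 U F (eRes F (homOfLE le_sup_left) 0 x) = 0 := by
    rw [show eRes F (homOfLE (le_sup_left : U ≤ U ⊔ V)) 0 x = 0 from congrArg Prod.fst hx, map_zero]
  have h2 : eu0 V F (eRes F (homOfLE le_sup_right) 0 x) = 0 := by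
    rw [show eRes F (homOfLE (le_sup_right : V ≤ U ⊔ V)) 0 x = 0 from congrArg Prod.snd hx, map_zero]
  rw [eu0_eRes] at h1 h2
  exact TopCat.Sheaf.eq_of_locally_eq₂ F (homOfLE le_sup_left) (homOfLE le_sup_right) le_rfl _ 0
    (h1.trans (map_zero _).symm) (h2.trans (map_zero _).symm)

end Groth.Agent.FlatBC
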